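import Groth.Agent.L08.GLn.Inst
import Mathlib.Algebra.Polynomial.Laurent
import Mathlib.Algebra.MonoidAlgebra.Module

/-!
Homogeneous representations of GLn: coefficients are homogeneous polynomials over a power of det.
-/

universe u

open TensorProduct MvPolynomial LaurentPolynomial

noncomputable section

namespace Groth.L08.GLn

open ComodTens

variable {k : Type u} [Field k] {n : ℕ}

variable (n k) in
/-- weight map -/
def wHom : CoordGrp.GLn n k →ₐ[k] CoordGrp.GLn n k ⊗[k] k[T;T⁻¹] :=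
  (Algebra.TensorProduct.map (AlgHom.id k _) (CoordGrp.GLn.diag n k (fun _ => 1) : CoordGrp.GLn n k →ₐ[k] k[T;T⁻¹])).comp
    (Bialgebra.comulAlgHom k (CoordGrp.GLn n k))

variable (n k) in
/-- component of weight `d` -/
def wComp (d : ℤ) : CoordGrp.GLn n k ⊗[k] k[T;T⁻¹] →ₗ[k] CoordGrp.GLn n k :=
  (TensorProduct.rid k _).toLinearMap ∘ₗ
    (Finsupp.lapply d ∘ₗ (AddMonoidAlgebra.coeffLinearEquiv k).toLinearMap).lTensor _

theorem wComp_tmul (d e : ℤ) (x : CoordGrp.GLn n k) :
    wComp k n d (x ⊗ₜ T e) = if e = d then x else 0 := by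
  simp only [wComp, LinearMap.comp_apply, LinearMap.lTensor_tmul, LinearEquiv.coe_coe,
    TensorProduct.rid_tmul]
  change ((T e : k[T;T⁻¹]).coeff d) • x = _
  rw [T_apply, ite_smul, one_smul, zero_smul]

theorem wHom_X (i j : Fin n) :
    wHom k n (CoordGrp.GLn.X i j) = CoordGrp.GLn.X i j ⊗ₜ T 1 := by
  rw [wHom, AlgHom.comp_apply, Bialgebra.comulAlgHom_apply, CoordGrp.GLn.comul_X, map_sum]
  simp only [Algebra.TensorProduct.map_tmul, AlgHom.id_apply]
  rw [Finset.sum_eq_single j]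
  · simp
  · intro l _ hl; simp [hl]
  · simp

theorem monomial_spec (e : ℕ) : ∀ μ : Fin n × Fin n →₀ ℕ, μ.degree = e →
    polyMap (CoordGrp.Mat.toGLn n k) (monomial μ 1) ∈
        TensorGen.cspan (Comod.tpow (stdB (CoordGrp.Mat.toGLn n k)) e) ∧
      wHom k n (polyMap (CoordGrp.Mat.toGLn n k) (monomial μ 1))
        = polyMap (CoordGrp.Mat.toGLn n k) (monomial μ 1) ⊗ₜ T (e : ℤ) := by
  induction e with
  | zero =>
    intro μ hμ
    obtain rfl : μ = 0 := Finsupp.degree_eq_zero_iff μ |>.1 hμ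
    rw [← MvPolynomial.C_apply, map_one, map_one, map_one, Algebra.TensorProduct.one_def, Nat.cast_zero, T_zero]
    exact ⟨TensorGen.one_mem_cspan_zero _, rfl⟩
  | succ e ih =>
    intro μ hμ
    obtain ⟨x, hx⟩ : μ.support.Nonempty := by
      rw [Finsupp.support_nonempty_iff]; rintro rfl; simp at hμ
    obtain ⟨ν, rfl⟩ : ∃ ν, μ = ν + Finsupp.single x 1 :=
      ⟨μ - Finsupp.single x 1, (tsub_add_cancel_of_le (Finsupp.single_le_iff.2
        (Nat.one_le_iff_ne_zero.2 (Finsupp.mem_support_iff.1 hx)))).symm⟩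
    rw [map_add, Finsupp.degree_single, Nat.add_right_cancel_iff] at hμ
    obtain ⟨h1, h2⟩ := ih ν hμ
    rw [monomial_add_single, pow_one, map_mul, polyMap_X, CoordGrp.Mat.toGLn_X]
    refine ⟨TensorGen.mul_mem_cspan_tpow _ e h1 ?_, ?_⟩
    · have hh := TensorGen.cfx_mem_cspan (stdB (CoordGrp.Mat.toGLn n k))
        (LinearMap.proj x.1) (Pi.single x.2 1)
      have : TensorGen.cfx (stdB (CoordGrp.Mat.toGLn n k)) (LinearMap.proj x.1) (Pi.single x.2 1)
          = CoordGrp.GLn.X x.1 x.2 := by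
        letI := stdB (CoordGrp.Mat.toGLn n k)
        change TensorProduct.lid k _ ((LinearMap.proj x.1).rTensor _ ((stdB (CoordGrp.Mat.toGLn n k)).coact (Pi.single x.2 1))) = _
        rw [stdB_coact_single, map_sum, map_sum, Finset.sum_eq_single x.1]
        · simp
        · intro b _ hb; simp [Pi.single_eq_of_ne (Ne.symm hb)]
        · simp
      rwa [this] at hh
    · rw [map_mul, h2, wHom_X, Algebra.TensorProduct.tmul_mul_tmul, ← T_add, Nat.cast_add,
        Nat.cast_one]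

theorem homog_spec {e : ℕ} {P : MvPolynomial (Fin n × Fin n) k} (hP : P.IsHomogeneous e) :
    polyMap (CoordGrp.Mat.toGLn n k) P ∈
        TensorGen.cspan (Comod.tpow (stdB (CoordGrp.Mat.toGLn n k)) e) ∧
      wHom k n (polyMap (CoordGrp.Mat.toGLn n k) P)
        = polyMap (CoordGrp.Mat.toGLn n k) P ⊗ₜ T (e : ℤ) := by
  have hd : ∀ d ∈ P.support, d.degree = e := fun d hd => by
    by_contra hne
    exact MvPolynomial.mem_support_iff.1 hd (hP.coeff_eq_zero hne)
  rw [P.as_sum, map_sum]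
  refine ⟨sum_mem fun d h => ?_, ?_⟩
  · rw [← mul_one (MvPolynomial.coeff d P), ← smul_eq_mul, ← smul_monomial, map_smul]
    exact Submodule.smul_mem _ _ (monomial_spec e d (hd d h)).1
  · rw [map_sum, TensorProduct.sum_tmul]
    refine Finset.sum_congr rfl fun d h => ?_
    rw [← mul_one (MvPolynomial.coeff d P), ← smul_eq_mul, ← smul_monomial, map_smul, map_smul,
      (monomial_spec e d (hd d h)).2, TensorProduct.smul_tmul']

theorem wHom_det_pow (c : ℕ) : wHom k n (CoordGrp.GLn.det ^ c)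
    = (CoordGrp.GLn.det ^ c : CoordGrp.GLn n k) ⊗ₜ T ((n : ℤ) * c) := by
  rw [map_pow, wHom, AlgHom.comp_apply, Bialgebra.comulAlgHom_apply, CoordGrp.GLn.comul_det,
    Algebra.TensorProduct.map_tmul, AlgHom.id_apply, Algebra.TensorProduct.tmul_pow]
  congr 1
  change CoordGrp.GLn.diag n k (fun _ => 1) CoordGrp.GLn.det ^ c = _
  rw [CoordGrp.GLn.diag_det, T_pow, Finset.sum_const, Finset.card_univ, Fintype.card_fin,
    nsmul_eq_mul, mul_one, mul_comm]

theorem exists_det_pow_mem (b : CoordGrp.GLn n k) : ∃ m : ℕ, ∀ c, m ≤ c →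
    b * CoordGrp.GLn.det ^ c ∈ LinearMap.range (polyMap (CoordGrp.Mat.toGLn n k)).toLinearMap := by
  refine Submodule.iSup_induction _ (motive := fun b => ∃ m : ℕ, ∀ c, m ≤ c →
    b * CoordGrp.GLn.det ^ c ∈ LinearMap.range (polyMap (CoordGrp.Mat.toGLn n k)).toLinearMap)
    (gl_span b) ?_ ⟨0, fun c _ => by simp⟩ ?_
  · rintro m _ ⟨_, ⟨P, rfl⟩, rfl⟩
    refine ⟨m, fun c hc => ⟨P * (Matrix.mvPolynomialX (Fin n) (Fin n) k).det ^ (c - m), ?_⟩⟩
    have hdet : polyMap (CoordGrp.Mat.toGLn n k) (Matrix.mvPolynomialX (Fin n) (Fin n) k).det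
        = CoordGrp.GLn.det := by
      rw [AlgHom.map_det, CoordGrp.GLn.det_eq]
      congr 1
      ext i j
      simp [polyMap_X, CoordGrp.GLn.genMat]
    simp only [AlgHom.toLinearMap_apply, LinearMap.mulRight_apply, map_mul, map_pow, hdet]
    conv_rhs => rw [← Nat.sub_add_cancel hc]
    rw [pow_add, mul_assoc, mul_left_comm (CoordGrp.GLn.Dinv ^ m), ← mul_pow,
      CoordGrp.GLn.Dinv_mul_det, one_pow, mul_one]
  · rintro p q ⟨m, hm⟩ ⟨m', hm'⟩
    exact ⟨max m m', fun c hc => by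
      rw [add_mul]; exact add_mem (hm c (le_of_max_le_left hc)) (hm' c (le_of_max_le_right hc))⟩

/-- a homogeneous element is a homogeneous polynomial over a power of det -/
theorem mul_det_pow_mem_cspan {b : CoordGrp.GLn n k} {h : ℤ} (hb : wHom k n b = b ⊗ₜ T h) {a c : ℕ}
    (hc : b * CoordGrp.GLn.det ^ c ∈ LinearMap.range (polyMap (CoordGrp.Mat.toGLn n k)).toLinearMap)
    (ha : (a : ℤ) = h + n * c) :
    b * CoordGrp.GLn.det ^ c ∈ TensorGen.cspan (Comod.tpow (stdB (CoordGrp.Mat.toGLn n k)) a) := by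
  obtain ⟨P, hP⟩ := hc
  rw [AlgHom.toLinearMap_apply] at hP
  have hw : wHom k n (b * CoordGrp.GLn.det ^ c) = (b * CoordGrp.GLn.det ^ c) ⊗ₜ T (a : ℤ) := by
    rw [map_mul, hb, wHom_det_pow, Algebra.TensorProduct.tmul_mul_tmul, ← T_add, ha]
  have h2 := congrArg (wComp k n a) hw
  rw [wComp_tmul, if_pos rfl, ← hP] at h2
  rw [← hP, ← h2, ← sum_homogeneousComponent P]
  simp only [map_sum]
  refine sum_mem fun e _ => ?_
  rw [(homog_spec (homogeneousComponent_isHomogeneous e P)).2, wComp_tmul]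
  split_ifs with he
  · obtain rfl := Nat.cast_injective he
    exact (homog_spec (homogeneousComponent_isHomogeneous _ P)).1
  · exact zero_mem _

end Groth.L08.GLn
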