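import Groth.Agent.L08.GLn.Schur
import Mathlib.FieldTheory.IsAlgClosed.Basic
import Mathlib.Algebra.MvPolynomial.Funext
import Mathlib.LinearAlgebra.Matrix.MvPolynomial

/-!
Independence and spanning for `GLn` and `SLn`.
-/

universe u

open TensorProduct MvPolynomial

noncomputable section

namespace Groth.L08.GLn

variable {k : Type u} [Field k] {n : ℕ}

theorem polyMap_X {B : Type u} [CommRing B] [Bialgebra k B] (π : CoordGrp.Mat n k →ₐc[k] B)
    (x : Fin n × Fin n) : polyMap π (X x) = π (CoordGrp.Mat.X x.1 x.2) := rfl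

/-- matrices to SLn -/
abbrev toSL (n : ℕ) (k : Type u) [Field k] : CoordGrp.Mat n k →ₐc[k] CoordGrp.SLn n k :=
  (CoordGrp.SLn.mkHom n k).comp (CoordGrp.Mat.toGLn n k)

theorem polyMap_toSL (P : MvPolynomial (Fin n × Fin n) k) :
    polyMap (toSL n k) P = CoordGrp.SLn.mk n k (polyMap (CoordGrp.Mat.toGLn n k) P) := rfl

/-- homogeneous polynomials vanishing on SLn vanish -/
theorem eq_zero_of_toSL [IsAlgClosed k] {a : ℕ} {P : MvPolynomial (Fin n × Fin n) k}
    (hP : P.IsHomogeneous a) (h : polyMap (toSL n k) P = 0) : P = 0 := by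
  haveI : Infinite k := IsAlgClosed.instInfinite
  let Δ : MvPolynomial (Fin n × Fin n) k := (Matrix.mvPolynomialX (Fin n) (Fin n) k).det
  have hΔ : Δ ≠ 0 := Matrix.det_mvPolynomialX_ne_zero (Fin n) k
  suffices hz : P * Δ = 0 from (mul_eq_zero.1 hz).resolve_right hΔ
  refine MvPolynomial.funext fun g => ?_
  rw [map_zero, map_mul]
  let M : Matrix (Fin n) (Fin n) k := fun i j => g (i, j)
  have hdet : eval g Δ = M.det := by
    rw [RingHom.map_det]
    congr 1
    ext i j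
    simp [M]
  rw [hdet]
  rcases eq_or_ne M.det 0 with h0 | h0
  · rw [h0, mul_zero]
  obtain ⟨t, ht, htne⟩ : ∃ t : k, t ^ n = M.det ∧ t ≠ 0 := by
    rcases Nat.eq_zero_or_pos n with hn | hn
    · subst hn; exact ⟨1, by rw [pow_zero, Matrix.det_isEmpty], one_ne_zero⟩
    · obtain ⟨t, ht⟩ := IsAlgClosed.exists_pow_nat_eq M.det hn
      exact ⟨t, ht, fun e => h0 (by rw [← ht, e, zero_pow hn.ne'])⟩
  have hM : (t⁻¹ • M).det = 1 := by
    rw [Matrix.det_smul, Fintype.card_fin, inv_pow, ht, inv_mul_cancel₀ h0]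
  have hev : (CoordGrp.SLn.pt n k (t⁻¹ • M) hM).comp (polyMap (toSL n k))
      = aeval fun x => t⁻¹ * g x := by
    refine MvPolynomial.algHom_ext fun x => ?_
    rw [AlgHom.comp_apply, polyMap_toSL, polyMap_X, CoordGrp.Mat.toGLn_X, aeval_X]
    change CoordGrp.SLn.pt n k (t⁻¹ • M) hM (CoordGrp.SLn.X x.1 x.2) = _
    rw [CoordGrp.SLn.pt_X]
    rfl
  have h2 := AlgHom.congr_fun hev P
  rw [AlgHom.comp_apply, h, map_zero] at h2
  have h3 : aeval (fun x => t⁻¹ * g x) P = t⁻¹ ^ a * eval g P := by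
    rw [aeval_def, Algebra.algebraMap_self, eval₂_id, eval_eq, eval_eq, Finset.mul_sum]
    refine Finset.sum_congr rfl fun d hd => ?_
    have hdeg : ∑ i ∈ d.support, d i = a := by
      rw [← Finsupp.degree_apply]; exact hP (MvPolynomial.mem_support_iff.1 hd) |> fun e => by
        simpa [Finsupp.weight_apply, Finsupp.sum, Finsupp.degree_apply] using e
    simp only [mul_pow, Finset.prod_mul_distrib, Finset.prod_pow_eq_pow_sum, hdeg]
    ring
  rw [h3] at h2
  have ht0 : t⁻¹ ^ a ≠ 0 := pow_ne_zero _ (inv_ne_zero htne)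
  rw [(mul_eq_zero.1 h2.symm).resolve_left ht0, zero_mul]

theorem eq_zero_of_toGLn [IsAlgClosed k] {a : ℕ} {P : MvPolynomial (Fin n × Fin n) k}
    (hP : P.IsHomogeneous a) (h : polyMap (CoordGrp.Mat.toGLn n k) P = 0) : P = 0 :=
  eq_zero_of_toSL hP (by rw [polyMap_toSL, h, map_zero])

theorem gl_span (b : CoordGrp.GLn n k) : b ∈ ⨆ m : ℕ,
    (LinearMap.range (polyMap (CoordGrp.Mat.toGLn n k)).toLinearMap).map
      (LinearMap.mulRight k ((CoordGrp.GLn.Dinv : CoordGrp.GLn n k) ^ m)) := by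
  obtain ⟨Q, rfl⟩ := Ideal.Quotient.mk_surjective b
  change CoordGrp.GLn.mk n k Q ∈ _
  revert Q
  suffices hQ : ∀ Q : MvPolynomial (CoordGrp.GLPoly.Idx n) k,
      CoordGrp.GLn.mk n k (Q : CoordGrp.GLb n k) ∈ ⨆ m : ℕ,
        (LinearMap.range (polyMap (CoordGrp.Mat.toGLn n k)).toLinearMap).map
          (LinearMap.mulRight k ((CoordGrp.GLn.Dinv : CoordGrp.GLn n k) ^ m)) from hQ
  intro Q
  let f : MvPolynomial (CoordGrp.GLPoly.Idx n) k →ₐ[k] CoordGrp.GLn n k := CoordGrp.GLn.mk n k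
  change f Q ∈ _
  induction Q using MvPolynomial.induction_on with
  | C r => exact Submodule.mem_iSup_of_mem 0 ⟨algebraMap k _ r,
      ⟨C r, (polyMap (CoordGrp.Mat.toGLn n k)).commutes r⟩, by
      rw [pow_zero, LinearMap.mulRight_apply, mul_one]; exact (f.commutes r).symm⟩
  | add p q hp hq => rw [map_add]; exact add_mem hp hq
  | mul_X p x hp =>
    rw [map_mul]
    refine Submodule.iSup_induction _ (motive := fun y => y * f (X x) ∈ ⨆ m : ℕ,
      (LinearMap.range (polyMap (CoordGrp.Mat.toGLn n k)).toLinearMap).map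
        (LinearMap.mulRight k ((CoordGrp.GLn.Dinv : CoordGrp.GLn n k) ^ m))) hp ?_ (by simp)
      fun p q hp hq => by rw [add_mul]; exact add_mem hp hq
    rintro m _ ⟨_, ⟨P, rfl⟩, rfl⟩
    rcases x with ⟨i, j⟩ | u
    · refine Submodule.mem_iSup_of_mem m ⟨_, ⟨P * X (i, j), rfl⟩, ?_⟩
      simp only [AlgHom.toLinearMap_apply, map_mul, LinearMap.mulRight_apply, polyMap_X,
        CoordGrp.Mat.toGLn_X]
      change _ = _ * _ * CoordGrp.GLn.X i j
      rw [mul_right_comm]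
    · refine Submodule.mem_iSup_of_mem (m + 1) ⟨_, ⟨P, rfl⟩, ?_⟩
      simp only [AlgHom.toLinearMap_apply, LinearMap.mulRight_apply]
      change _ = _ * _ * CoordGrp.GLn.Dinv
      rw [pow_succ, mul_assoc]

theorem sl_span (b : CoordGrp.SLn n k) : b ∈ ⨆ m : ℕ,
    (LinearMap.range (polyMap (toSL n k)).toLinearMap).map
      (LinearMap.mulRight k ((CoordGrp.SLn.mk n k CoordGrp.GLn.Dinv) ^ m)) := by
  obtain ⟨y, rfl⟩ : ∃ y, CoordGrp.SLn.mk n k y = b := Ideal.Quotient.mk_surjective b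
  refine Submodule.iSup_induction _ (motive := fun y => CoordGrp.SLn.mk n k y ∈ ⨆ m : ℕ,
    (LinearMap.range (polyMap (toSL n k)).toLinearMap).map
      (LinearMap.mulRight k ((CoordGrp.SLn.mk n k CoordGrp.GLn.Dinv) ^ m))) (gl_span y) ?_ (by simp)
    fun p q hp hq => by rw [map_add]; exact add_mem hp hq
  rintro m _ ⟨_, ⟨P, rfl⟩, rfl⟩
  refine Submodule.mem_iSup_of_mem m ⟨_, ⟨P, rfl⟩, ?_⟩
  simp [polyMap_toSL]

theorem gl_isGroupLike_Dinv :
    IsGroupLikeElem k (CoordGrp.GLn.Dinv : CoordGrp.GLn n k) :=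
  ⟨CoordGrp.GLn.counit_Dinv, CoordGrp.GLn.comul_Dinv⟩

theorem gl_isGroupLike_det : IsGroupLikeElem k (CoordGrp.GLn.det : CoordGrp.GLn n k) :=
  ⟨CoordGrp.GLn.counit_det, CoordGrp.GLn.comul_det⟩

theorem isLinearlyReductive_gl [IsAlgClosed k] [CharZero k] :
    HopfRep.IsLinearlyReductive k (CoordGrp.GLn n k) :=
  isLinearlyReductive_of_tpow _ gl_isGroupLike_Dinv gl_isGroupLike_det CoordGrp.GLn.Dinv_mul_det
    (fun a => isSemisimpleComod_tpow _ a fun _ => eq_zero_of_toGLn) gl_span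

theorem isLinearlyReductive_sl [IsAlgClosed k] [CharZero k] :
    HopfRep.IsLinearlyReductive k (CoordGrp.SLn n k) :=
  isLinearlyReductive_of_tpow (toSL n k)
    (g := CoordGrp.SLn.mk n k CoordGrp.GLn.Dinv) (g' := CoordGrp.SLn.mk n k CoordGrp.GLn.det)
    (gl_isGroupLike_Dinv.map (CoordGrp.SLn.mkHom n k))
    (gl_isGroupLike_det.map (CoordGrp.SLn.mkHom n k))
    (by rw [← map_mul, CoordGrp.GLn.Dinv_mul_det, map_one])
    (fun a => isSemisimpleComod_tpow _ a fun _ => eq_zero_of_toSL) sl_span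

end Groth.L08.GLn
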