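import Groth.Agent.L08.Basic
import Groth.Prelude.Def_ComodTens
import Mathlib.LinearAlgebra.PiTensorProduct.Basis

/-!
The coaction of tensor powers of `Fin n → k` on basis tensors.
-/

universe u v

open TensorProduct

noncomputable section

namespace Groth.L08.GLn

open ComodTens

variable {k : Type u} [CommRing k] {B : Type v} [CommRing B] [Bialgebra k B] {n : ℕ}

variable (k) in
/-- standard basis tensor -/
def eT (a : ℕ) (I : Fin a → Fin n) : TensorPower k a (Fin n → k) :=
  PiTensorProduct.tprod k fun t => (Pi.single (I t) (1 : k) : Fin n → k)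

variable (k n) in
/-- standard basis of the tensor power -/
def bT (a : ℕ) : Module.Basis (Fin a → Fin n) k (TensorPower k a (Fin n → k)) :=
  Basis.piTensorProduct fun _ : Fin a => Pi.basisFun k (Fin n)

theorem bT_apply (a : ℕ) (I : Fin a → Fin n) : bT k n a I = eT k a I := by
  rw [bT, Basis.piTensorProduct_apply]
  simp [eT, Pi.basisFun_apply]

theorem eT_snoc (a : ℕ) (I : Fin a → Fin n) (i : Fin n) :
    TensorPower.mulEquiv (R := k) (M := Fin n → k) (n := a) (m := 1)
      (eT k a I ⊗ₜ[k] (PiTensorProduct.subsingletonEquiv (R := k) (s := fun _ : Fin 1 => Fin n → k)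
        (0 : Fin 1)).symm (Pi.single i 1)) = eT k (a + 1) (Fin.snoc I i) := by
  rw [PiTensorProduct.subsingletonEquiv_symm_apply', ← TensorPower.gMul_def, eT,
    TensorPower.tprod_mul_tprod, eT]
  refine congrArg (PiTensorProduct.tprod k) ?_
  rw [Fin.append_right_eq_snoc]
  funext t
  refine Fin.lastCases ?_ (fun j => ?_) t <;> simp

/-- the coaction on basis tensors, given the coaction on the standard basis -/
theorem tpow_coact_eT (c : HopfRep.Comod k B (Fin n → k)) (M : Fin n → Fin n → B)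
    (hc : ∀ i, c.coact (Pi.single i 1) = ∑ j, (Pi.single j (1 : k)) ⊗ₜ[k] M j i) :
    ∀ (a : ℕ) (I : Fin a → Fin n),
      (Comod.tpow c a).coact (eT k a I) = ∑ J : Fin a → Fin n, eT k a J ⊗ₜ[k] ∏ t, M (J t) (I t)
  | 0, I => by
    have h1 : eT k 0 I = (PiTensorProduct.isEmptyEquiv (Fin 0) (R := k)
        (s := fun _ : Fin 0 => Fin n → k)).symm 1 := by
      rw [LinearEquiv.eq_symm_apply, eT, PiTensorProduct.isEmptyEquiv_apply_tprod]
    rw [Fintype.sum_unique, Fin.prod_univ_zero, tpow_zero, h1, ofEquiv_coact_apply]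
    change (PiTensorProduct.isEmptyEquiv (Fin 0) (R := k) (s := fun _ : Fin 0 => Fin n → k)).symm
      (1 : k) ⊗ₜ[k] (1 : B) = _
    rw [← h1]
    exact congrArg (fun J => eT k 0 J ⊗ₜ[k] (1 : B)) (Subsingleton.elim _ _)
  | a + 1, I => by
    obtain ⟨I, i, rfl⟩ : ∃ I' i, I = Fin.snoc I' i :=
      ⟨Fin.init I, I (Fin.last a), (Fin.snoc_init_self I).symm⟩
    rw [← eT_snoc, tpow_succ, ofEquiv_coact_apply]
    have h1 : (Comod.tpowOne c).coact ((PiTensorProduct.subsingletonEquiv (R := k)
        (s := fun _ : Fin 1 => Fin n → k) (0 : Fin 1)).symm (Pi.single i 1))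
        = ∑ j, (PiTensorProduct.subsingletonEquiv (R := k) (s := fun _ : Fin 1 => Fin n → k)
          (0 : Fin 1)).symm (Pi.single j 1) ⊗ₜ[k] M j i := by
      rw [Comod.tpowOne, ofEquiv_coact_apply, hc, map_sum]
      simp
    rw [tensor_coact_tmul_of_sum _ _ Finset.univ Finset.univ _ _ _ _ _ _
      (tpow_coact_eT c M hc a I) h1, map_sum]
    rw [← (Fin.snocEquiv fun _ : Fin (a + 1) => Fin n).sum_comp, Fintype.sum_prod_type,
      Finset.sum_comm]
    refine Finset.sum_congr rfl fun j _ => ?_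
    simp only [map_sum]
    refine Finset.sum_congr rfl fun J _ => ?_
    rw [LinearMap.rTensor_tmul, LinearEquiv.coe_coe, eT_snoc, Fin.prod_univ_castSucc]
    simp [Fin.snocEquiv]

theorem fAct_tpow_matrix (c : HopfRep.Comod k B (Fin n → k)) (M : Fin n → Fin n → B)
    (hc : ∀ i, c.coact (Pi.single i 1) = ∑ j, (Pi.single j (1 : k)) ⊗ₜ[k] M j i)
    (a : ℕ) (φ : B →ₗ[k] k) (J I : Fin a → Fin n) :
    LinearMap.toMatrix (bT k n a) (bT k n a)
      (@fAct k _ B _ _ _ (TensorPower k a (Fin n → k)) _ _ (Comod.tpow c a) φ) J I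
      = φ (∏ t, M (J t) (I t)) := by
  classical
  rw [LinearMap.toMatrix_apply, bT_apply]
  simp only [fAct, LinearMap.comp_apply, LinearEquiv.coe_coe]
  rw [tpow_coact_eT c M hc]
  simp [map_sum, ← bT_apply, Finsupp.single_apply]

end Groth.L08.GLn
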