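import Groth.Agent.L08.GLn.TraceSemi
import Groth.Agent.L08.GLn.TPow
import Groth.Agent.L08.TensorGen
import Groth.Agent.L08.Subcoalg
import Groth.Prelude.Def_GLin5
import Mathlib.RingTheory.MvPolynomial.Homogeneous
import Mathlib.Algebra.CharZero.Defs
import Mathlib.RingTheory.SimpleModule.Basic

/-!
Semisimplicity of tensor powers of the standard representation in characteristic zero, for quotients
of the matrix monoid on which polynomials of a fixed degree remain independent.
-/

universe u v

open TensorProduct MvPolynomial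

noncomputable section

namespace Groth.L08.GLn

open ComodTens

variable {k : Type u} [Field k] {B : Type u} [CommRing B] [Bialgebra k B] {n : ℕ}
  (π : CoordGrp.Mat n k →ₐc[k] B)

/-- a bialgebra map as an algebra map out of polynomials -/
def polyMap : MvPolynomial (Fin n × Fin n) k →ₐ[k] B :=
  (π : CoordGrp.Mat n k →ₐ[k] B).comp ((CoordGrp.Mat.toPoly n k).symm : _ →ₐ[k] CoordGrp.Mat n k)

/-- exponent vector of a pair of multi-indices -/
def expo {a : ℕ} (J I : Fin a → Fin n) : Fin n × Fin n →₀ ℕ := ∑ t, Finsupp.single (J t, I t) 1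

theorem degree_expo {a : ℕ} (J I : Fin a → Fin n) : (expo J I).degree = a := by
  simp [expo, map_sum]

theorem expo_swap {a : ℕ} (J I : Fin a → Fin n) :
    Finsupp.mapDomain Prod.swap (expo J I) = expo I J := by
  simp [expo, Finsupp.mapDomain_finsetSum]

theorem expo_swap_iff {a : ℕ} (J I J' I' : Fin a → Fin n) :
    expo I J = expo I' J' ↔ expo J I = expo J' I' := by
  constructor <;> intro h <;>
    simpa only [expo_swap] using congrArg (Finsupp.mapDomain Prod.swap) h

theorem prod_entry {a : ℕ} (J I : Fin a → Fin n) :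
    ∏ t, π (CoordGrp.Mat.X (J t) (I t)) = polyMap π (monomial (expo J I) 1) := by
  rw [expo, MvPolynomial.monomial_sum_one, map_prod]
  rfl

/-- the comodule on `Fin n → k` -/
abbrev stdB : HopfRep.Comod k B (Fin n → k) := GLin.comodAlong π (stdVec n k)

theorem stdB_coact_single (i : Fin n) :
    (stdB π).coact (Pi.single i 1) = ∑ j, (Pi.single j (1 : k)) ⊗ₜ[k] π (CoordGrp.Mat.X j i) := by
  change (π : CoordGrp.Mat n k →ₗ[k] B).lTensor (Fin n → k) ((stdVec n k).coact _) = _
  rw [stdVec_coact_single, map_sum]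
  rfl

theorem fAct_matrix (a : ℕ) (φ : B →ₗ[k] k) (J I : Fin a → Fin n) :
    LinearMap.toMatrix (bT k n a) (bT k n a)
      (@fAct k _ B _ _ _ (TensorPower k a (Fin n → k)) _ _ (Comod.tpow (stdB π) a) φ) J I
      = φ (polyMap π (monomial (expo J I) 1)) := by
  rw [fAct_tpow_matrix (stdB π) (fun j i => π (CoordGrp.Mat.X j i)) (stdB_coact_single π), prod_entry]

/-- in characteristic zero tensor powers are semisimple -/
theorem isSemisimpleComod_tpow [CharZero k] (a : ℕ)
    (hind : ∀ P : MvPolynomial (Fin n × Fin n) k, P.IsHomogeneous a → polyMap π P = 0 → P = 0) :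
    @HopfRep.IsSemisimpleComod k B _ _ _ _ (TensorPower k a (Fin n → k)) _ _
      (Comod.tpow (stdB π) a) := by
  classical
  letI := Comod.tpow (stdB π) a
  haveI : Module.Finite k (TensorPower k a (Fin n → k)) := Module.Finite.of_basis (bT k n a)
  refine isSemisimpleComod_of_trace fun φ hφ => ?_
  obtain ⟨J0, I0, h0⟩ : ∃ J I, φ (polyMap π (monomial (expo (a := a) J I) 1)) ≠ 0 := by
    by_contra hc
    push Not at hc
    refine hφ ((LinearMap.toMatrix (bT k n a) (bT k n a)).injective (Matrix.ext fun J I => ?_))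
    rw [fAct_matrix, hc, map_zero]
    rfl
  let H := homogeneousSubmodule (Fin n × Fin n) k a
  let ι : H →ₗ[k] B := (polyMap π).toLinearMap ∘ₗ H.subtype
  have hι : LinearMap.ker ι = ⊥ := LinearMap.ker_eq_bot'.2 fun P hP => Subtype.ext (hind _ P.2 hP)
  obtain ⟨L, hL⟩ := ι.exists_leftInverse_of_injective hι
  let ψ : B →ₗ[k] k := lcoeff k (expo I0 J0) ∘ₗ H.subtype ∘ₗ L
  have hψ : ∀ J I : Fin a → Fin n, ψ (polyMap π (monomial (expo J I) 1))
      = if expo J I = expo I0 J0 then 1 else 0 := by
    intro J I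
    have hm : monomial (expo J I) (1 : k) ∈ H :=
      isHomogeneous_monomial _ (degree_expo J I)
    have := LinearMap.congr_fun hL ⟨_, hm⟩
    simp only [LinearMap.comp_apply, LinearMap.id_apply] at this
    have hι' : polyMap π (monomial (expo J I) 1) = ι ⟨_, hm⟩ := rfl
    simp only [ψ, LinearMap.comp_apply, hι', this]
    simp [coeff_monomial]
  refine ⟨ψ, ?_⟩
  rw [LinearMap.trace_eq_matrix_trace k (bT k n a), LinearMap.toMatrix_mul, Matrix.trace]
  simp only [Matrix.diag_apply, Matrix.mul_apply, fAct_matrix, hψ]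
  rw [Finset.sum_congr rfl fun J _ => Finset.sum_congr rfl fun I _ =>
    show φ (polyMap π (monomial (expo J I) 1)) * (if expo I J = expo I0 J0 then (1 : k) else 0)
      = if expo J I = expo J0 I0 then φ (polyMap π (monomial (expo J0 I0) 1)) else 0 from ?_]
  · rw [← Fintype.sum_prod_type', ← Finset.sum_filter, Finset.sum_const, nsmul_eq_mul]
    refine mul_ne_zero (Nat.cast_ne_zero.2 fun h => ?_) h0
    exact Finset.notMem_empty (J0, I0) (Finset.card_eq_zero.1 h ▸ by simp)
  · by_cases h : expo J I = expo J0 I0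
    · rw [if_pos h, if_pos ((expo_swap_iff J I J0 I0).2 h), h, mul_one]
    · rw [if_neg h, if_neg fun e => h ((expo_swap_iff J I J0 I0).1 e), mul_zero]

section Twist

variable {V : Type u} [AddCommGroup V] [Module k V] (c : HopfRep.Comod k B V)

theorem isSubcomod_twist {g : B} (hg : IsGroupLikeElem k g) {W : Submodule k V}
    (hW : @HopfRep.IsSubcomod k B _ _ _ _ V _ _ c W) :
    @HopfRep.IsSubcomod k B _ _ _ _ V _ _ (Comod.twist c g hg) W := by
  intro w hw
  obtain ⟨y, hy⟩ := hW w hw
  refine ⟨(LinearMap.mulRight k g).lTensor W y, ?_⟩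
  rw [twist_coact, ← hy, lTensor_rTensor_comm]

theorem isSubcomod_of_twist {g g' : B} (hg : IsGroupLikeElem k g) (hg' : IsGroupLikeElem k g')
    (h : g * g' = 1) {W : Submodule k V}
    (hW : @HopfRep.IsSubcomod k B _ _ _ _ V _ _ (Comod.twist c g hg) W) :
    @HopfRep.IsSubcomod k B _ _ _ _ V _ _ c W := by
  intro w hw
  obtain ⟨y, hy⟩ := isSubcomod_twist (Comod.twist c g hg) hg' hW w hw
  refine ⟨y, hy.trans ?_⟩
  rw [twist_coact, twist_coact, ← LinearMap.lTensor_comp_apply,
    show LinearMap.mulRight k g' ∘ₗ LinearMap.mulRight k g = LinearMap.id from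
      LinearMap.ext fun b => by simp [mul_assoc, h], LinearMap.lTensor_id_apply]

theorem isSemisimpleComod_twist {g g' : B} (hg : IsGroupLikeElem k g) (hg' : IsGroupLikeElem k g')
    (h : g * g' = 1) (hc : @HopfRep.IsSemisimpleComod k B _ _ _ _ V _ _ c) :
    @HopfRep.IsSemisimpleComod k B _ _ _ _ V _ _ (Comod.twist c g hg) := by
  intro W hW
  obtain ⟨W', hW', hc'⟩ := hc W (isSubcomod_of_twist c hg hg' h hW)
  exact ⟨W', isSubcomod_twist c hg hW', hc'⟩

theorem isComodHom_mulRight_cf {g : B} (hg : IsGroupLikeElem k g) (f : Module.Dual k V) :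
    @Hoch.IsComodHom k _ B _ _ _ V _ _ (Comod.twist c g hg) B _ _ (HopfRep.Comod.regular k B)
      (LinearMap.mulRight k g ∘ₗ TensorGen.cfx c f) := by
  refine LinearMap.ext fun v => ?_
  letI := c
  have h : Coalgebra.comul (R := k) (cf (A := B) f v) = (cf (A := B) f).rTensor B (c.coact v) :=
    LinearMap.congr_fun (isComodHom_cf (A := B) f) v
  change Coalgebra.comul (R := k) (cf (A := B) f v * g) =
    (LinearMap.mulRight k g ∘ₗ cf (A := B) f).rTensor B ((LinearMap.mulRight k g).lTensor V (c.coact v))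
  rw [comul_mul_of_isGroupLikeElem hg, h]
  induction c.coact v using TensorProduct.induction_on with
  | zero => simp
  | add x y hx hy => simp only [map_add, hx, hy]
  | tmul x y => simp

end Twist

theorem mem_iSup_cspan (P : MvPolynomial (Fin n × Fin n) k) :
    polyMap π P ∈ ⨆ a : ℕ, TensorGen.cspan (Comod.tpow (stdB π) a) := by
  induction P using MvPolynomial.induction_on with
  | C r =>
    rw [← mul_one (C r), ← smul_eq_C_mul, map_smul, map_one]
    exact Submodule.smul_mem _ _ (Submodule.mem_iSup_of_mem 0 (TensorGen.one_mem_cspan_zero _))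
  | add p q hp hq => rw [map_add]; exact add_mem hp hq
  | mul_X p x hp =>
    rw [map_mul]
    have hX : polyMap π (X x) ∈ TensorGen.cspan (stdB π) := by
      letI := stdB π
      have : TensorGen.cfx (stdB π) (LinearMap.proj x.1) (Pi.single x.2 1) = polyMap π (X x) := by
        change TensorProduct.lid k B ((LinearMap.proj x.1).rTensor B ((stdB π).coact _)) = _
        rw [stdB_coact_single, map_sum, map_sum, Finset.sum_eq_single x.1]
        · simp; rfl
        · intro b _ hb; simp [Pi.single_eq_of_ne (Ne.symm hb)]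
        · simp
      exact this ▸ TensorGen.cfx_mem_cspan _ _ _
    refine Submodule.iSup_induction' _
      (motive := fun y _ => y * polyMap π (X x) ∈ ⨆ a, TensorGen.cspan (Comod.tpow (stdB π) a))
      (fun m y hy => Submodule.mem_iSup_of_mem (m + 1) (TensorGen.mul_mem_cspan_tpow _ m hy hX))
      (by simp) (fun p q _ _ hp hq => by rw [add_mul]; exact add_mem hp hq) hp

/-- semisimplicity of all comodules -/
theorem isLinearlyReductive_of_tpow {g g' : B} (hg : IsGroupLikeElem k g)
    (hg' : IsGroupLikeElem k g') (h : g * g' = 1)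
    (hss : ∀ a : ℕ, @HopfRep.IsSemisimpleComod k B _ _ _ _ (TensorPower k a (Fin n → k)) _ _
      (Comod.tpow (stdB π) a))
    (hspan : ∀ b : B, b ∈ ⨆ m : ℕ,
      (LinearMap.range (polyMap π).toLinearMap).map (LinearMap.mulRight k (g ^ m))) :
    HopfRep.IsLinearlyReductive k B := by
  classical
  intro V _ _ _ hV
  haveI : IsSemisimpleModule (Dl k B) B := by
    let idx := Σ p : ℕ × ℕ, Module.Dual k (TensorPower k p.2 (Fin n → k))
    let p : idx → Submodule (Dl k B) B := fun i =>
      @LinearMap.range (Dl k B) (Dl k B) (TensorPower k i.1.2 (Fin n → k)) B _ _ _ _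
        (@comodModule k _ B _ _ _ (TensorPower k i.1.2 (Fin n → k)) _ _
          (Comod.twist (Comod.tpow (stdB π) i.1.2) (g ^ i.1.1) hg.pow)) _ _ _
        (@homToMod k _ B _ _ _ _ _ _ (Comod.twist (Comod.tpow (stdB π) i.1.2) (g ^ i.1.1) hg.pow)
          _ _ _ _ _ (isComodHom_mulRight_cf (Comod.tpow (stdB π) i.1.2) hg.pow i.2))
    have hp : ∀ i, IsSemisimpleModule (Dl k B) (p i) := by
      intro i
      letI := Comod.twist (Comod.tpow (stdB π) i.1.2) (g ^ i.1.1) hg.pow
      have hs := isSemisimpleComod_twist (Comod.tpow (stdB π) i.1.2) (g := g ^ i.1.1)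
        (g' := g' ^ i.1.1) hg.pow hg'.pow (by rw [← mul_pow, h, one_pow]) (hss i.1.2)
      rw [isSemisimpleComod_iff] at hs
      exact IsSemisimpleModule.range _
    refine isSemisimpleModule_of_isSemisimpleModule_submodule' hp ?_
    refine eq_top_iff.2 fun b _ => ?_
    refine Submodule.iSup_induction _ (motive := fun b =>
      b ∈ ⨆ i, p i) (hspan b) ?_
      (zero_mem _) (fun _ _ => add_mem)
    rintro m _ ⟨_, ⟨P, rfl⟩, rfl⟩
    refine Submodule.iSup_induction _ (motive := fun y =>
      y * g ^ m ∈ ⨆ i, p i)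
      (mem_iSup_cspan π P) (fun a y hy => ?_) (by simp) fun p q hp hq => by
        rw [add_mul]; exact add_mem hp hq
    refine Submodule.iSup_induction _ (motive := fun y =>
      y * g ^ m ∈ ⨆ i, p i)
      hy (fun f' y hy' => ?_) (by simp) fun p q hp hq => by
        rw [add_mul]; exact add_mem hp hq
    obtain ⟨x, rfl⟩ := hy'
    exact Submodule.mem_iSup_of_mem (⟨(m, a), f'⟩ : idx) ⟨x, rfl⟩
  rw [isSemisimpleComod_iff]
  let bs := Module.finBasis k V
  let ψ0 : V →ₗ[Dl k B] Fin (Module.finrank k V) → B :=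
    LinearMap.pi fun l => homToMod (isComodHom_cf (A := B) (bs.coord l))
  refine IsSemisimpleModule.of_injective ψ0 fun x y hxy => bs.ext_elem fun l => ?_
  have h2 : Coalgebra.counit (R := k) (cf (A := B) (bs.coord l) x)
      = Coalgebra.counit (R := k) (cf (A := B) (bs.coord l) y) :=
    congrArg (fun z : Fin (Module.finrank k V) → B => Coalgebra.counit (R := k) (z l)) hxy
  simpa only [apply_cf, fAct_counit, LinearMap.id_apply, Module.Basis.coord_apply] using h2

end Groth.L08.GLn
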