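import Groth.Agent.L08.Semisimple
import Mathlib.RingTheory.Artinian.Module
import Mathlib.RingTheory.Artinian.Ring
import Mathlib.LinearAlgebra.Trace
import Mathlib.LinearAlgebra.Eigenspace.Zero

/-!
A trace criterion for semisimplicity of a comodule.
-/

universe u v w

open TensorProduct

noncomputable section

namespace Groth.L08

variable {k : Type u} [Field k] {A : Type v} [AddCommGroup A] [Module k A] [Coalgebra k A]
  {V : Type w} [AddCommGroup V] [Module k V] [HopfRep.Comod k A V]

variable (k A V) in
/-- the action as an algebra map -/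
def actAlgHom : Dl k A →ₐ[k] Module.End k V where
  toFun φ := fAct V φ.fn
  map_one' := fAct_one
  map_mul' φ ψ := fAct_mul φ ψ
  map_zero' := (fActL (k := k) (A := A) V).map_zero
  map_add' φ ψ := (fActL (k := k) (A := A) V).map_add φ.fn ψ.fn
  commutes' r := by
    refine LinearMap.ext fun v => ?_
    change (algebraMap k (Dl k A) r) • v = r • v
    rw [algebraMap_smul]

/-- nondegeneracy of the trace form on the image of the dual algebra gives semisimplicity -/
theorem isSemisimpleComod_of_trace [Module.Finite k V]
    (h : ∀ φ : A →ₗ[k] k, fAct V φ ≠ 0 →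
      ∃ ψ : A →ₗ[k] k, LinearMap.trace k V (fAct V φ * fAct V ψ) ≠ 0) :
    HopfRep.IsSemisimpleComod k A V := by
  rw [isSemisimpleComod_iff]
  let E : Subalgebra k (Module.End k V) := (actAlgHom k A V).range
  haveI : Module.Finite k E := Module.Finite.of_injective E.val.toLinearMap Subtype.val_injective
  haveI : IsArtinianRing E := IsArtinianRing.of_finite k E
  haveI : IsSemisimpleRing E := by
    rw [IsArtinianRing.isSemisimpleRing_iff_jacobson, eq_bot_iff]
    intro x hx
    rw [Submodule.mem_bot]
    by_contra hne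
    obtain ⟨xv, φ, hφ⟩ := x
    obtain ⟨ψ, hψ⟩ := h φ.fn fun e => hne (Subtype.ext (hφ.symm.trans e))
    let y : E := ⟨fAct V ψ, Dl.of ψ, rfl⟩
    have hmem : (⟨xv, φ, hφ⟩ : E) * y ∈ Ring.jacobson E := Ideal.mul_mem_right _ _ hx
    obtain ⟨m, hm⟩ := (IsSemiprimaryRing.isNilpotent (R := E))
    have hnil : IsNilpotent (xv * fAct V ψ) := by
      refine ⟨m, congrArg Subtype.val (show ((⟨xv, φ, hφ⟩ : E) * y) ^ m = 0 from ?_)⟩
      have := Ideal.pow_mem_pow hmem m
      rw [hm] at this
      exact this
    exact hψ ((hφ ▸ LinearMap.isNilpotent_trace_of_isNilpotent hnil).eq_zero)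
  letI : Module E V := Module.compHom V E.val.toRingHom
  let σ : Dl k A →+* E := (actAlgHom k A V).rangeRestrict.toRingHom
  haveI : RingHomSurjective σ := ⟨(actAlgHom k A V).rangeRestrict_surjective⟩
  let l : V →ₛₗ[σ] V :=
    { toFun := id
      map_add' := fun _ _ => rfl
      map_smul' := fun _ _ => rfl }
  exact (LinearMap.isSemisimpleModule_iff_of_bijective l Function.bijective_id).2 inferInstance

end Groth.L08
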